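import Groth.Agent.UnipOrbit.Closed
import Groth.Prelude.Def_W4c6nonredquotmfGoodQuot

/-! Good quotients by connected groups without subtori separate orbits. -/

universe u

open CategoryTheory CategoryTheory.Limits MonoidalCategory CartesianMonoidalCategory MonObj GrpObj AlgebraicGeometry

attribute [local instance] CategoryTheory.Hom.monoid CategoryTheory.Hom.group
set_option linter.style.haveILetI false
set_option linter.unusedSectionVars false
set_option backward.isDefEq.respectTransparency false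
set_option backward.isDefEq.respectTransparency.types false

namespace Groth.Agent.UnipOrbit

open Deform.Chev (Pt pimg pimg_comp)

noncomputable section

variable {k : Type u} [Field k] [IsAlgClosed k] {G X Y : Over (Spec (CommRingCat.of k))} [GrpObj G]

/-- An invariant open subscheme with its action. -/
def openObj (U : X.left.Opens) : Over (Spec (CommRingCat.of k)) := Over.mk (U.ι ≫ X.hom)

def openIncl (U : X.left.Opens) : openObj U ⟶ X := Over.homMk U.ι

theorem exists_restrict (a : AlgGrp.Action G X) (U : X.left.Opens)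
    (hU : ∀ p : ↥(G ⊗ X).left, (snd G X).left.base p ∈ U → a.act.left.base p ∈ U) :
    ∃ a' : AlgGrp.Action G (openObj U), a'.act ≫ openIncl U = (G ◁ openIncl U) ≫ a.act := by
  haveI : IsOpenImmersion (openIncl U).left := inferInstanceAs (IsOpenImmersion U.ι)
  haveI : Mono (openIncl U) := (Over.forget _).mono_of_mono_map (inferInstanceAs (Mono U.ι))
  have hr : Set.range ((G ◁ openIncl U) ≫ a.act).left ⊆ Set.range U.ι := by
    rintro _ ⟨p, rfl⟩
    rw [Scheme.Opens.range_ι]
    refine hU ((G ◁ openIncl U).left p) ?_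
    have e : (G ◁ openIncl U) ≫ snd G X = snd G (openObj U) ≫ openIncl U := whiskerLeft_snd _ _
    have e' := congrArg (fun q => q.left p) e
    exact e' ▸ ((snd G (openObj U)).left p).2
  let l : G ⊗ openObj U ⟶ openObj U := Over.homMk (IsOpenImmersion.lift U.ι ((G ◁ openIncl U) ≫ a.act).left hr) (by
    show IsOpenImmersion.lift U.ι _ hr ≫ U.ι ≫ X.hom = _
    rw [← Category.assoc, IsOpenImmersion.lift_fac]
    exact Over.w ((G ◁ openIncl U) ≫ a.act))
  have hl : l ≫ openIncl U = (G ◁ openIncl U) ≫ a.act :=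
    Over.OverMorphism.ext (IsOpenImmersion.lift_fac _ _ _)
  refine ⟨{ act := l, one_act := ?_, mul_act := ?_ }, hl⟩
  · rw [← cancel_mono (openIncl U), Category.assoc, hl, ← Category.assoc, ← whisker_exchange, Category.assoc,
      a.one_act]
    simp
  · rw [← cancel_mono (openIncl U)]
    simp only [Category.assoc, hl]
    rw [← Category.assoc, ← whisker_exchange, Category.assoc, a.mul_act, associator_naturality_right_assoc,
      ← MonoidalCategory.whiskerLeft_comp_assoc, ← MonoidalCategory.whiskerLeft_comp_assoc, hl]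

/-- A good quotient of a connected group without subtori separates orbits of rational points. -/
theorem exists_translate [IsAffine G.left] [LocallyOfFiniteType G.hom] [Smooth G.hom] [ConnectedSpace G.left]
    (hG : Red.HasNoSubtorus k G) [LocallyOfFiniteType X.hom] [LocallyOfFiniteType Y.hom]
    (a : AlgGrp.Action G X) (φ : X ⟶ Y) (h : NRQuot.IsGoodQuot a φ) (x₁ x₂ : Pt X) (hφ : x₁ ≫ φ = x₂ ≫ φ) :
    ∃ g : Pt G, lift g x₁ ≫ a.act = x₂ := by
  haveI := h.affine
  obtain ⟨_, ⟨V, hV, rfl⟩, hy, -⟩ := Y.left.isBasis_affineOpens.exists_subset_of_mem_open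
    (Set.mem_univ (pimg (x₁ ≫ φ))) isOpen_univ
  let U : X.left.Opens := φ.left ⁻¹ᵁ V
  have hU : ∀ p : ↥(G ⊗ X).left, (snd G X).left.base p ∈ U → a.act.left.base p ∈ U := fun p hp => by
    have e := congrArg (fun q => q.left p) h.inv
    show φ.left (a.act.left p) ∈ V
    exact (show φ.left (a.act.left p) = φ.left ((snd G X).left p) from e) ▸ hp
  obtain ⟨aW, haW⟩ := exists_restrict a U hU
  haveI : IsAffine (openObj U).left := hV.preimage φ.left
  haveI : LocallyOfFiniteType (openObj U).hom := inferInstanceAs (LocallyOfFiniteType (U.ι ≫ X.hom))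
  have hlift : ∀ x : Pt X, pimg x ∈ U → ∃ x' : Pt (openObj U), x' ≫ openIncl U = x := fun x hx => by
    have hr : Set.range x.left ⊆ Set.range U.ι := by
      rintro _ ⟨s, rfl⟩
      rw [Scheme.Opens.range_ι, show s = IsLocalRing.closedPoint k from Subsingleton.elim (α := PrimeSpectrum k) _ _]
      exact hx
    refine ⟨Over.homMk (IsOpenImmersion.lift U.ι x.left hr) ?_, Over.OverMorphism.ext (IsOpenImmersion.lift_fac _ _ _)⟩
    show IsOpenImmersion.lift U.ι _ hr ≫ U.ι ≫ X.hom = _
    rw [← Category.assoc, IsOpenImmersion.lift_fac]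
    exact Over.w x
  obtain ⟨w₁, hw₁⟩ := hlift x₁ hy
  obtain ⟨w₂, hw₂⟩ := hlift x₂ (show φ.left (pimg x₂) ∈ V by rw [← pimg_comp, ← hφ]; exact hy)
  have horb : ∀ w : Pt (openObj U), aW.orbitMap w ≫ openIncl U = a.orbitMap (w ≫ openIncl U) := fun w => by
    simp only [AlgGrp.Action.orbitMap, Category.assoc, haW]
    rw [← Category.assoc (lift _ _), lift_whiskerLeft]
    simp only [Category.assoc]
  let O : Pt X → Set X.left := fun x => Set.range (a.orbitMap x).left
  let C : Pt X → Set X.left := fun x => closure (O x)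
  -- translations preserve orbit closures
  have hinv : ∀ x, NRQuot.IsInvariantSet a (C x) := by
    intro x
    by_contra hne
    simp only [NRQuot.IsInvariantSet, not_forall] at hne
    obtain ⟨p, hp, hpn⟩ := hne
    haveI : LocallyOfFiniteType (G ⊗ X).hom :=
      inferInstanceAs (LocallyOfFiniteType (pullback.fst G.hom X.hom ≫ G.hom))
    obtain ⟨q, hq1, hq2⟩ := Deform.Chev.exists_pt (G := G ⊗ X)
      (S := (snd G X).left ⁻¹' C x ∩ (a.act.left ⁻¹' C x)ᶜ) ⟨p, hp, hpn⟩
      ((isClosed_closure.preimage (snd G X).left.continuous).isLocallyClosed.inter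
        (isClosed_closure.preimage a.act.left.continuous).isOpen_compl.isLocallyClosed)
    let g : Pt G := q ≫ fst G X
    let z : Pt X := q ≫ snd G X
    let t : X ⟶ X := lift (toUnit X ≫ g) (𝟙 X) ≫ a.act
    have hzt : z ≫ t = q ≫ a.act := by
      show z ≫ lift (toUnit X ≫ g) (𝟙 X) ≫ a.act = _
      rw [← Category.assoc, comp_lift, Category.comp_id, ← Category.assoc, toUnit_unique (z ≫ toUnit X) (𝟙 _),
        Category.id_comp]
      simp only [g, z, ← comp_lift, lift_fst_snd, Category.comp_id]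
    have hto : t.left '' O x ⊆ O x := by
      rintro _ ⟨_, ⟨w, rfl⟩, rfl⟩
      refine ⟨((toUnit G ≫ g) * 𝟙 G).left w, ?_⟩
      have e : a.orbitMap x ≫ t = ((toUnit G ≫ g) * 𝟙 G) ≫ a.orbitMap x := by
        simp only [t, AlgGrp.Action.orbitMap]
        simp only [← Category.assoc, comp_lift, Category.comp_id, comp_toUnit, Agent.GrpSchLib.act_mul]
      exact (congrArg (fun r => r.left w) e).symm
    refine hq2 ?_
    show pimg (q ≫ a.act) ∈ C x
    rw [← hzt, pimg_comp]
    exact closure_mono hto (image_closure_subset_closure_image t.left.continuous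
      (Set.mem_image_of_mem _ (show pimg z ∈ C x from hq1)))
  have hself : ∀ x, pimg x ∈ O x := fun x => ⟨pimg (1 : Pt G), by
    rw [← pimg_comp, Deform.Borel.pt_orbitMap, Agent.GrpSchLib.act_one]⟩
  -- the two closures meet over the common image
  let J := ULift.{u} Bool
  let Wf : J → Set X.left := fun j => bif j.down then C x₁ else C x₂
  have hyWf : pimg (x₁ ≫ φ) ∈ ⋂ j, φ.left.base '' Wf j := Set.mem_iInter.mpr fun j => by
    rcases j with ⟨_ | _⟩
    · exact ⟨pimg x₂, subset_closure (hself x₂), by rw [hφ]; rfl⟩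
    · exact ⟨pimg x₁, subset_closure (hself x₁), rfl⟩
  rw [← h.inter J Wf (fun j => by rcases j with ⟨_ | _⟩ <;> exact isClosed_closure)
    (fun j => by rcases j with ⟨_ | _⟩ <;> exact hinv _)] at hyWf
  obtain ⟨p, hp, hpy⟩ := hyWf
  have hcl : IsClosed ({pimg (x₁ ≫ φ)} : Set Y.left) :=
    ((pointEquivClosedPoint Y.hom) ⟨(x₁ ≫ φ).left, Over.w (x₁ ≫ φ)⟩).2
  obtain ⟨z, ⟨hz1, hz2⟩, hzy⟩ := Deform.Chev.exists_pt (G := X)
    (S := (C x₁ ∩ C x₂) ∩ φ.left ⁻¹' {pimg (x₁ ≫ φ)})
    ⟨p, ⟨Set.mem_iInter.mp hp ⟨true⟩, Set.mem_iInter.mp hp ⟨false⟩⟩, hpy⟩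
    ((isClosed_closure.inter isClosed_closure).inter (hcl.preimage φ.left.continuous)).isLocallyClosed
  have hzU : pimg z ∈ U := by
    show φ.left (pimg z) ∈ V
    rw [Set.mem_singleton_iff.mp hzy]; exact hy
  have key : ∀ (x : Pt X) (w : Pt (openObj U)), w ≫ openIncl U = x → pimg z ∈ C x →
      ∃ g : Pt G, lift g x ≫ a.act = z := by
    intro x w hw hz
    have hO : O x = U.ι '' Set.range (aW.orbitMap w).left := by
      rw [← Set.range_comp]
      show Set.range (a.orbitMap x).left = _
      rw [← hw, ← horb]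
      rfl
    have hzO : pimg z ∈ O x := by
      obtain ⟨z', hz'⟩ := hlift z hzU
      have hmem : pimg z' ∈ closure (Set.range (aW.orbitMap w).left) := by
        rw [← U.ι.isOpenEmbedding.injective.preimage_image (Set.range (aW.orbitMap w).left),
          ← U.ι.isOpenEmbedding.isOpenMap.preimage_closure_eq_closure_preimage U.ι.continuous, ← hO]
        show U.ι (pimg z') ∈ closure (O x)
        rw [show U.ι (pimg z') = pimg z by rw [← hz']; rfl]
        exact hz
      rw [(isClosed_orbit hG aW w).closure_eq] at hmem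
      rw [hO]
      exact ⟨pimg z', hmem, by rw [← hz']; rfl⟩
    obtain ⟨g, hg⟩ := Deform.Chev.exists_pt (G := G) (S := (a.orbitMap x).left ⁻¹' {pimg z}) (by
      obtain ⟨r, hr⟩ := hzO
      exact ⟨r, hr⟩)
      (((pointEquivClosedPoint X.hom) ⟨z.left, Over.w z⟩).2.preimage (a.orbitMap x).left.continuous).isLocallyClosed
    refine ⟨g, Deform.Chev.pimg_injective ?_⟩
    rw [← Deform.Borel.pt_orbitMap, pimg_comp]
    exact hg
  obtain ⟨g₁, hg₁⟩ := key x₁ w₁ hw₁ hz1
  obtain ⟨g₂, hg₂⟩ := key x₂ w₂ hw₂ hz2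
  refine ⟨g₂⁻¹ * g₁, ?_⟩
  rw [← Agent.GrpSchLib.act_mul, hg₁, ← hg₂, Agent.GrpSchLib.act_mul, inv_mul_cancel, Agent.GrpSchLib.act_one]

end

end Groth.Agent.UnipOrbit
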