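import Groth.Agent.Deform.Luna.RepVec
import Groth.Agent.GrpSchLib.OrbitDim
import Groth.Agent.Deform.Borel.FixedPoint
import Groth.Agent.Deform.Borel.UnipKer

/-! Orbits of connected groups without subtori on affine schemes are closed. -/

universe u

open CategoryTheory CategoryTheory.Limits MonoidalCategory CartesianMonoidalCategory MonObj GrpObj AlgebraicGeometry
open Matrix

attribute [local instance] CategoryTheory.Hom.monoid CategoryTheory.Hom.group
set_option linter.style.haveILetI false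
set_option linter.unusedSectionVars false
set_option backward.isDefEq.respectTransparency.types false

namespace Groth.Agent.UnipOrbit

open Deform.Chev (Pt pimg pimg_comp)
open Deform.Luna (zv)
open Deform.Borel (matPtOf)
open Agent.GrpSchLib.Kunneth (Fn ev evPt evPt_comp ev_ev IsRepMatrix exists_expand)

noncomputable section

variable {k : Type u} [Field k] [IsAlgClosed k]

/-- A representation of a group without subtori fixes a nonzero functional. -/
theorem exists_fixed_dual {U : Over (Spec (CommRingCat.of k))} [GrpObj U] [IsAffine U.left] [Smooth U.hom]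
    [ConnectedSpace U.left] (hU : Red.HasNoSubtorus k U) {m : ℕ} {M : Matrix (Fin (m + 1)) (Fin (m + 1)) (Fn U)}
    (hM : IsRepMatrix M) :
    ∃ ℓ : Fin (m + 1) → k, ℓ ≠ 0 ∧ ∀ (g : Pt U) (v : Fin (m + 1) → k), ℓ ⬝ᵥ (matPtOf M g *ᵥ v) = ℓ ⬝ᵥ v := by
  haveI : IsAffineHom U.hom := isAffineHom_of_isAffine _
  haveI := Deform.Borel.isNilpotent_pts_of_noSubtorus U hU
  haveI : Group.IsSolvable (Pt U) := inferInstance
  obtain ⟨N, hN, hNM⟩ := Deform.Luna.exists_dual hM
  obtain ⟨a, ha⟩ := Deform.Borel.exists_projAct hN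
  haveI : Nonempty (Agent.GrpSchLib.ProjLine.Pn k m).left := by
    obtain ⟨x, -⟩ := Deform.Borel.exists_hasCrd (k := k) (v := Pi.single (0 : Fin (m + 1)) (1 : k))
      (fun h => one_ne_zero (α := k) (by simpa using congrFun h 0))
    exact ⟨pimg x⟩
  obtain ⟨x, hx⟩ := Deform.Borel.exists_fixedPt U (Agent.GrpSchLib.ProjLine.Pn k m) a
  obtain ⟨ℓ, hℓ⟩ := Deform.Borel.exists_crd x
  have heig : ∀ g : Pt U, ∃ c : k, matPtOf N g *ᵥ ℓ = c • ℓ := fun g => by
    have h := hx (𝟙_ _) g
    rw [toUnit_unique (toUnit (𝟙_ _)) (𝟙 _), Category.id_comp] at h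
    have h2 := ha g x ℓ hℓ
    rw [h] at h2
    obtain ⟨c, -, hc⟩ := Deform.Luna.crd_smul hℓ h2
    exact ⟨c, hc⟩
  have hfix := Deform.Luna.eigen_fixed hU hN hℓ.ne_zero heig
  refine ⟨ℓ, hℓ.ne_zero, fun g v => ?_⟩
  conv_rhs => rw [← hfix g⁻¹, hNM, _root_.inv_inv, Matrix.mulVec_transpose]
  rw [Matrix.dotProduct_mulVec]

/-- Orbits of connected groups without subtori on affine schemes are closed. -/
theorem isClosed_orbit {G W : Over (Spec (CommRingCat.of k))} [GrpObj G] [IsAffine G.left] [Smooth G.hom]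
    [ConnectedSpace G.left] (hG : Red.HasNoSubtorus k G) [IsAffine W.left] [LocallyOfFiniteType W.hom]
    (a : AlgGrp.Action G W) (x : Pt W) : IsClosed (Set.range (a.orbitMap x).left) := by
  classical
  haveI : IsAffineHom G.hom := isAffineHom_of_isAffine _
  haveI : QuasiCompact G.hom := inferInstance
  haveI : QuasiCompact W.hom := by
    haveI : IsAffineHom W.hom := isAffineHom_of_isAffine _
    infer_instance
  haveI : IsSeparated W.hom := inferInstance
  by_contra hnc
  obtain ⟨y, hy⟩ := Agent.GrpSchLib.OrbitDim.exists_orbit_subset_boundary a x hnc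
  have hB : IsClosed (closure (Set.range (a.orbitMap x).left) \ Set.range (a.orbitMap x).left) :=
    ⟨(Agent.GrpSchLib.OrbitDim.isLocallyClosed_orbit a x).isOpen_coborder⟩
  let pt : Pt W → Pt G → Pt W := fun p g => g ≫ a.orbitMap p
  have hin : ∀ p : Pt W, ∀ g : Pt G, pimg (pt p g) ∈ Set.range (a.orbitMap p).left :=
    fun p g => ⟨pimg g, (pimg_comp g (a.orbitMap p)).symm⟩
  have hone : ∀ p : Pt W, pt p 1 = p := fun p => by
    show (1 : Pt G) ≫ a.orbitMap p = p
    rw [Deform.Borel.pt_orbitMap, Agent.GrpSchLib.act_one]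
  obtain ⟨_, ⟨_, ⟨f, rfl⟩, rfl⟩, hxf, hfB⟩ := (isBasis_basicOpen W.left).exists_subset_of_mem_open
    (show pimg x ∈ (closure (Set.range (a.orbitMap x).left) \ Set.range (a.orbitMap x).left)ᶜ from
      fun h => h.2 (by simpa only [hone] using hin x 1)) hB.isOpen_compl
  have hfy : ∀ g : Pt G, evPt (pt y g) f = 0 := fun g =>
    (Deform.Borel.evPt_eq_zero_iff _ _).mpr fun h => hfB h (hy (hin y g))
  have hfx : evPt x f ≠ 0 := fun h => (Deform.Borel.evPt_eq_zero_iff _ _).mp h hxf
  -- the translates of the pulled back function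
  let F : Fn G := ev (a.orbitMap x) f
  let T : Pt G → (Pt G → k) := fun g h => evPt (g * h) F
  obtain ⟨s, α, hsa⟩ := exists_expand (Module.Basis.ofVectorSpace k (Fn G)) (ev (fst G G * snd G G) F)
  have hTexp : ∀ g h, T g h = ∑ l ∈ s, evPt g (α l) * evPt h (Module.Basis.ofVectorSpace k (Fn G) l) := fun g h => by
    have h1 := congrArg (evPt (lift g h)) hsa
    simp only [map_sum, map_mul, evPt_comp, MonObj.comp_mul, lift_fst, lift_snd] at h1
    exact h1
  let Vs : Submodule k (Pt G → k) := Submodule.span k (Set.range T)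
  have hle : Vs ≤ Submodule.span k
      ((fun l (h : Pt G) => evPt h (Module.Basis.ofVectorSpace k (Fn G) l)) '' (s : Set _)) := by
    rw [Submodule.span_le]
    rintro _ ⟨g, rfl⟩
    rw [show T g = ∑ l ∈ s, evPt g (α l) • fun (h : Pt G) => evPt h (Module.Basis.ofVectorSpace k (Fn G) l) from
      funext fun h => by simp [hTexp]]
    exact Submodule.sum_mem _ fun l hl => Submodule.smul_mem _ _ (Submodule.subset_span ⟨l, hl, rfl⟩)
  haveI hfd0 := FiniteDimensional.span_of_finite k
    (s.finite_toSet.image fun l (h : Pt G) => evPt h (Module.Basis.ofVectorSpace k (Fn G) l))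
  haveI : FiniteDimensional k Vs := Submodule.finiteDimensional_of_le hle
  obtain ⟨t, ht, htspan⟩ := Submodule.fg_span_iff_fg_span_finset_subset _ |>.mp
    (Module.Finite.iff_fg.mp (inferInstance : Module.Finite k Vs))
  choose gg hgg using fun v : ↥t => ht v.2
  let n := t.card
  let gi : Fin (n + 1) → Pt G := Fin.cons 1 fun i => gg (t.equivFin.symm i)
  let z : Fin (n + 1) → Fn G := fun i => ev ((toUnit G ≫ gi i) * 𝟙 G) F
  have hz : ∀ h i, zv z h i = T (gi i) h := fun h i => by
    show evPt h (ev ((toUnit G ≫ gi i) * 𝟙 G) F) = evPt (gi i * h) F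
    rw [evPt_comp, MonObj.comp_mul, Category.comp_id, ← Category.assoc, toUnit_unique (h ≫ toUnit G) (𝟙 _),
      Category.id_comp]
  have hspan : Vs ≤ Submodule.span k (Set.range fun i => T (gi i)) := by
    rw [show Vs = Submodule.span k (t : Set (Pt G → k)) from htspan]
    refine Submodule.span_mono fun v hv => ⟨(t.equivFin ⟨v, hv⟩).succ, ?_⟩
    simp only [gi, Fin.cons_succ, Equiv.symm_apply_apply]
    exact hgg ⟨v, hv⟩
  have hne : zv z (1 : Pt G) ≠ 0 := fun h => hfx (by
    have h0 := congrFun h 0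
    rw [hz] at h0
    simpa [T, gi, F, evPt_comp, Deform.Borel.pt_orbitMap, Agent.GrpSchLib.act_one] using h0)
  have hmove : ∀ g : Pt G, ∃ A : Matrix (Fin (n + 1)) (Fin (n + 1)) k,
      ∀ h : Pt G, zv z (g * h) = A *ᵥ zv z h := fun g => by
    choose c hc using fun i => (Submodule.mem_span_range_iff_exists_fun k).mp
      (hspan (Submodule.subset_span ⟨gi i * g, rfl⟩))
    refine ⟨Matrix.of c, fun h => funext fun i => ?_⟩
    have e := congrFun (hc i) h
    simp only [Finset.sum_apply, Pi.smul_apply, smul_eq_mul] at e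
    rw [hz, show T (gi i) (g * h) = T (gi i * g) h by simp only [T, _root_.mul_assoc], ← e]
    simp only [Matrix.mulVec, dotProduct, Matrix.of_apply, hz]
  obtain ⟨m, w, M, h₀, π, hM, hwb, hwm, hπ, -⟩ := Deform.Luna.exists_spanning z hne hmove
  obtain ⟨ℓ, hℓ0, hℓ⟩ := exists_fixed_dual hG hM
  obtain ⟨i₀, hi₀⟩ := Function.ne_iff.mp hℓ0
  let c : Fin (n + 1) → k := fun i => ℓ ⬝ᵥ π (Pi.single i 1)
  let L : (Fin (n + 1) → k) →ₗ[k] k :=
    { toFun := fun v => ℓ ⬝ᵥ π v
      map_add' := fun u v => by simp [dotProduct_add]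
      map_smul' := fun r v => by simp [dotProduct_smul] }
  have hL : ∀ v, L v = ∑ i, c i * v i := fun v => by
    conv_lhs => rw [pi_eq_sum_univ' v]
    simp only [map_sum, map_smul, smul_eq_mul]
    exact Finset.sum_congr rfl fun i _ => mul_comm _ _
  have hconst : ∀ h : Pt G, L (zv z h) = ℓ i₀ := fun h => by
    have e : ∀ g, ℓ ⬝ᵥ zv w g = ℓ ⬝ᵥ zv w (1 : Pt G) := fun g => by
      conv_lhs => rw [← _root_.mul_one g, hwm, hℓ]
    show ℓ ⬝ᵥ π (zv z h) = _
    rw [hπ, e, ← e (h₀ i₀), hwb, dotProduct_single, _root_.mul_one]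
  -- the same combination on the affine scheme
  let Φ : Fn W := ∑ i, c i • ev (lift (toUnit W ≫ gi i) (𝟙 W) ≫ a.act) f
  have hΦ : ∀ p : Pt W, evPt p Φ = ∑ i, c i * evPt (pt p (gi i)) f := fun p => by
    simp only [Φ, map_sum, map_smul, smul_eq_mul, evPt_comp]
    refine Finset.sum_congr rfl fun i _ => ?_
    rw [← Category.assoc, comp_lift, Category.comp_id, ← Category.assoc, toUnit_unique (p ≫ toUnit W) (𝟙 _),
      Category.id_comp]
    exact congrArg (fun q => c i * evPt q f) (Deform.Borel.pt_orbitMap a p (gi i)).symm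
  have hΨ : ∀ h : Pt G, evPt (pt x h) (Φ - algebraMap k (Fn W) (ℓ i₀)) = 0 := fun h => by
    rw [map_sub, AlgHom.commutes, sub_eq_zero]
    show evPt (pt x h) Φ = ℓ i₀
    rw [hΦ, ← hconst h, hL]
    refine Finset.sum_congr rfl fun i _ => ?_
    rw [hz]
    show _ = c i * evPt (gi i * h) (ev (a.orbitMap x) f)
    rw [evPt_comp]
    simp only [pt, Deform.Borel.pt_orbitMap, Agent.GrpSchLib.act_mul]
  have hsub : closure (Set.range (a.orbitMap x).left) ⊆
      (W.left.basicOpen (Φ - algebraMap k (Fn W) (ℓ i₀)) : Set W.left)ᶜ :=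
    closure_minimal (Deform.Chev.mem_of_pts (a.orbitMap x) (W.left.basicOpen _).2.isClosed_compl
      fun h => (Deform.Borel.evPt_eq_zero_iff _ _).mp (hΨ h)) (W.left.basicOpen _).2.isClosed_compl
  have h1 := (Deform.Borel.evPt_eq_zero_iff y _).mpr
    (hsub (hy (by simpa only [hone] using hin y 1)).1)
  rw [map_sub, AlgHom.commutes, sub_eq_zero, hΦ] at h1
  simp only [hfy, MulZeroClass.mul_zero, Finset.sum_const_zero] at h1
  exact hi₀ (h1.symm.trans rfl)

end

end Groth.Agent.UnipOrbit
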